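import Groth.Agent.Lib.Helper24.Catenary
import Groth.Agent.S9124
import Mathlib.RingTheory.EssentialFiniteness
import Mathlib.RingTheory.MvPolynomial.Localization
import Mathlib.RingTheory.FiniteType

/-! Essentially finite type algebras over universally catenary rings are universally catenary. -/

set_option autoImplicit false

namespace Groth.Agent.Lib.Helper24.EssFTCat

universe u

open CAlg PrimeSpectrum

theorem catenary_of_surjective {P D : Type u} [CommRing P] [CommRing D] (φ : P →+* D)
    (hφ : Function.Surjective φ) (hP : CAlg.IsCatenary P) : CAlg.IsCatenary D := by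
  have hemb := (PrimeSpectrum.isClosedEmbedding_comap_of_surjective _ φ hφ).isEmbedding
  refine CatOrd.of_orderEmbedding (specOrderEmbedding φ hemb) ?_ hP
  rw [range_specOrderEmbedding, range_comap_of_surjective _ φ hφ]
  apply IsUpperSet.ordConnected
  intro p q hpq hp
  rw [PrimeSpectrum.mem_zeroLocus] at hp ⊢
  exact hp.trans (show (p.asIdeal : Set P) ⊆ q.asIdeal from hpq)

theorem main (A : Type u) [CommRing A] (B : Type u) [CommRing B]
    [Algebra A B] [Algebra.EssFiniteType A B]
    (hA : CAlg.IsUniversallyCatenary A) : CAlg.IsUniversallyCatenary B := by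
  haveI := hA.1
  haveI : IsNoetherianRing (Algebra.EssFiniteType.subalgebra A B) :=
    Algebra.FiniteType.isNoetherianRing A _
  haveI : IsNoetherianRing B :=
    IsLocalization.isNoetherianRing (Algebra.EssFiniteType.submonoid A B) B inferInstance
  refine ⟨inferInstance, fun D _ _ hD => ?_⟩
  obtain ⟨n, φ, hφ⟩ := Algebra.FiniteType.iff_quotient_mvPolynomial''.mp hD
  have h1 : CAlg.IsCatenary (MvPolynomial (Fin n) (Algebra.EssFiniteType.subalgebra A B)) :=
    hA.2 _ (Algebra.FiniteType.trans (inferInstance : Algebra.FiniteType A
      (Algebra.EssFiniteType.subalgebra A B)) inferInstance)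
  letI := MvPolynomial.algebraMvPolynomial (σ := Fin n)
    (R := Algebra.EssFiniteType.subalgebra A B) (S := B)
  have h2 : CAlg.IsCatenary (MvPolynomial (Fin n) B) :=
    Groth.Agent.S9124.result (MvPolynomial (Fin n) (Algebra.EssFiniteType.subalgebra A B))
      ((Algebra.EssFiniteType.submonoid A B).map MvPolynomial.C) (MvPolynomial (Fin n) B) h1
  exact catenary_of_surjective φ.toRingHom hφ h2

end Groth.Agent.Lib.Helper24.EssFTCat
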