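import Mathlib.RingTheory.LocalProperties.Submodule
import Mathlib.Algebra.Module.LocalizedModule.Basic
import Mathlib.RingTheory.Ideal.Span

/-! Sheaf property of `M~` on a finite principal cover. -/

set_option autoImplicit false

namespace Groth.Agent.Lib.Helper24.CoverGlue

universe u

open Submonoid

variable {R : Type u} [CommRing R] {ι : Type u} [Fintype ι] (f : ι → R)
    (hf : Ideal.span (Set.range f) = ⊤)
    (M : Type u) [AddCommGroup M] [Module R M]
    (Mi : ι → Type u) [∀ i, AddCommGroup (Mi i)] [∀ i, Module R (Mi i)] (g : ∀ i, M →ₗ[R] Mi i)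
    [∀ i, IsLocalizedModule (Submonoid.powers (f i)) (g i)]
    (Mij : ι → ι → Type u) [∀ i j, AddCommGroup (Mij i j)] [∀ i j, Module R (Mij i j)]
    (gij : ∀ i j, M →ₗ[R] Mij i j) [∀ i j, IsLocalizedModule (Submonoid.powers (f i * f j)) (gij i j)]
    (ρ₁ : ∀ i j, Mi i →ₗ[R] Mij i j) (hρ₁ : ∀ i j, ρ₁ i j ∘ₗ g i = gij i j)
    (ρ₂ : ∀ i j, Mi j →ₗ[R] Mij i j) (hρ₂ : ∀ i j, ρ₂ i j ∘ₗ g j = gij i j)

include hf in
lemma exists_partition (N : ℕ) : ∃ c : ι → R, ∑ i, c i * f i ^ N = 1 := by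
  have hspan : Ideal.span (Set.range fun i => f i ^ N) = ⊤ := by
    have := Ideal.span_pow_eq_top (Set.range f) hf N
    rwa [← Set.range_comp] at this
  have h1 : (1 : R) ∈ Ideal.span (Set.range fun i => f i ^ N) := by rw [hspan]; trivial
  exact (Ideal.mem_span_range_iff_exists_fun).mp h1

include hf in
theorem inj (m : M) (h : ∀ i, g i m = 0) : m = 0 := by
  classical
  have hA : ∀ i, ∃ n : ℕ, (f i ^ n) • m = 0 := by
    intro i
    have h0 : g i m = g i 0 := by rw [h i, map_zero]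
    obtain ⟨⟨_, n, rfl⟩, hn⟩ := IsLocalizedModule.exists_of_eq
      (S := Submonoid.powers (f i)) (f := g i) h0
    refine ⟨n, ?_⟩
    rw [smul_zero] at hn
    exact hn
  choose n hn using hA
  obtain ⟨N, hnN⟩ : ∃ N, ∀ i, n i ≤ N := ⟨∑ i, n i, fun i =>
    Finset.single_le_sum (f := n) (fun _ _ => Nat.zero_le _) (Finset.mem_univ i)⟩
  have hN : ∀ i, (f i ^ N) • m = 0 := by
    intro i
    rw [← Nat.sub_add_cancel (hnN i), pow_add, mul_smul, hn i, smul_zero]
  obtain ⟨c, hc⟩ := exists_partition f hf N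
  calc m = (1 : R) • m := (one_smul _ _).symm
    _ = ∑ i, (c i * f i ^ N) • m := by rw [← hc, Finset.sum_smul]
    _ = 0 := Finset.sum_eq_zero fun i _ => by rw [mul_smul, hN i, smul_zero]

include hf hρ₁ hρ₂ in
theorem glue (s : ∀ i, Mi i) (hs : ∀ i j, ρ₁ i j (s i) = ρ₂ i j (s j)) :
    ∃ m : M, ∀ i, g i m = s i := by
  classical
  -- Step A
  obtain ⟨N, m₁, hm₁⟩ : ∃ (N : ℕ) (m₁ : ι → M), ∀ i, (f i ^ N) • s i = g i (m₁ i) := by
    have hA : ∀ i, ∃ (n : ℕ) (m : M), (f i ^ n) • s i = g i m := by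
      intro i
      obtain ⟨⟨m, ⟨_, n, rfl⟩⟩, h⟩ := IsLocalizedModule.surj (Submonoid.powers (f i)) (g i) (s i)
      exact ⟨n, m, h⟩
    choose n m₀ hm₀ using hA
    have hnN : ∀ i, n i ≤ ∑ i, n i := fun i =>
      Finset.single_le_sum (f := n) (fun _ _ => Nat.zero_le _) (Finset.mem_univ i)
    refine ⟨∑ i, n i, fun i => (f i ^ ((∑ i, n i) - n i)) • m₀ i, fun i => ?_⟩
    rw [map_smul, ← hm₀ i, smul_smul, ← pow_add, Nat.sub_add_cancel (hnN i)]
  -- Step B
  obtain ⟨K, hK'⟩ : ∃ K : ℕ, ∀ i j, ((f i * f j) ^ K) • ((f j ^ N) • m₁ i) =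
      ((f i * f j) ^ K) • ((f i ^ N) • m₁ j) := by
    have hB : ∀ i j, ∃ k : ℕ, ((f i * f j) ^ k) • ((f j ^ N) • m₁ i) =
        ((f i * f j) ^ k) • ((f i ^ N) • m₁ j) := by
      intro i j
      have e1 : gij i j (m₁ i) = ρ₁ i j (g i (m₁ i)) := by rw [← hρ₁ i j]; rfl
      have e2 : gij i j (m₁ j) = ρ₂ i j (g j (m₁ j)) := by rw [← hρ₂ i j]; rfl
      have h1 : gij i j ((f j ^ N) • m₁ i) = gij i j ((f i ^ N) • m₁ j) := by
        rw [map_smul, map_smul, e1, e2, ← hm₁ i, ← hm₁ j, map_smul, map_smul, hs i j, smul_smul,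
          smul_smul, mul_comm]
      obtain ⟨⟨_, k, rfl⟩, hk⟩ := IsLocalizedModule.exists_of_eq
        (S := Submonoid.powers (f i * f j)) (f := gij i j) h1
      exact ⟨k, hk⟩
    choose k hk using hB
    have hkK : ∀ i j, k i j ≤ ∑ i, ∑ j, k i j := by
      intro i j
      calc k i j ≤ ∑ j', k i j' := Finset.single_le_sum (f := k i) (fun _ _ => Nat.zero_le _)
            (Finset.mem_univ j)
        _ ≤ ∑ i, ∑ j, k i j := Finset.single_le_sum (f := fun i => ∑ j', k i j')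
            (fun _ _ => Nat.zero_le _) (Finset.mem_univ i)
    refine ⟨∑ i, ∑ j, k i j, fun i j => ?_⟩
    rw [← Nat.sub_add_cancel (hkK i j), pow_add, mul_smul, mul_smul, hk i j]
  -- Step C
  obtain ⟨N', m₂, hm₂, hcompat⟩ : ∃ (N' : ℕ) (m₂ : ι → M), (∀ i, (f i ^ N') • s i = g i (m₂ i)) ∧
      ∀ i j, (f j ^ N') • m₂ i = (f i ^ N') • m₂ j := by
    refine ⟨N + K, fun i => (f i ^ K) • m₁ i, fun i => ?_, fun i j => ?_⟩
    · rw [map_smul, ← hm₁ i, smul_smul, ← pow_add, add_comm K N]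
    · have := hK' i j
      simp only [smul_smul] at this ⊢
      have e1 : f j ^ (N + K) * f i ^ K = (f i * f j) ^ K * f j ^ N := by
        rw [pow_add, mul_pow]; ring
      have e2 : f i ^ (N + K) * f j ^ K = (f i * f j) ^ K * f i ^ N := by
        rw [pow_add, mul_pow]; ring
      rw [e1, e2]
      exact this
  -- Step D
  obtain ⟨c, hc⟩ := exists_partition f hf N'
  -- Step E
  refine ⟨∑ i, c i • m₂ i, fun j => ?_⟩
  have hj : (f j ^ N') • (∑ i, c i • m₂ i) = m₂ j := by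
    rw [Finset.smul_sum]
    have : ∀ i, (f j ^ N') • c i • m₂ i = (c i * f i ^ N') • m₂ j := by
      intro i
      rw [smul_comm, hcompat i j, smul_smul]
    simp only [this]
    rw [← Finset.sum_smul, hc, one_smul]
  apply IsLocalizedModule.smul_injective (g j) (⟨f j ^ N', N', rfl⟩ : Submonoid.powers (f j))
  change (f j ^ N') • g j (∑ i, c i • m₂ i) = (f j ^ N') • s j
  rw [← map_smul, hj, hm₂ j]

end Groth.Agent.Lib.Helper24.CoverGlue
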